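import Cfsg.Agent.H830.B57.Defs
import Cfsg.Agent.H893.Fac
import Cfsg.Agent.H486.B57.Col

/-!
# S5717, B2: bases of primitive groups of diagonal type (helper112)

* `conj_coord'` : conjugation in coordinates; `scott'` : `Fac.scott` with the isomorphisms of the factors;
* `core` : the elements fixing the points of the base.
-/

set_option autoImplicit false
set_option linter.unusedSectionVars false

open Subgroup

namespace Cfsg.Agent.H112.B57

open Cfsg.Agent.H893 Cfsg.Agent.H893.Fac Cfsg.Agent.Lib.MinNormal Cfsg.Agent.PermutationGroups.Subdirect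
open Cfsg.Agent.PermutationGroups Cfsg.Agent.H830.B57

section Coord

variable {G : Type*} [Group G] {N : Subgroup G} {m : ℕ} {T : Fin m → Subgroup G} {e : N ≃* (∀ i, T i)}

theorem conj_coord' [N.Normal] (h : Fac N m T e) {k : G} {i j : Fin m}
    (hij : T j = (T i).map (MulAut.conj k).toMonoidHom) (n : N) :
    ((e (cj N k n) j : T j) : G) = k * ((e n i : T i) : G) * k⁻¹ := by
  classical
  set t := e n i with ht
  have h1 : e (cj N k n) j = e (cj N k (e.symm (Pi.mulSingle i t))) j := by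
    rw [h.cj_eq_cj k i j hij, MulEquiv.apply_symm_apply, Pi.mulSingle_eq_same]
  have h2 : k * (t : G) * k⁻¹ ∈ T j := by
    rw [hij]
    exact ⟨t, t.2, rfl⟩
  have h3 : cj N k (e.symm (Pi.mulSingle i t)) = e.symm (Pi.mulSingle j ⟨k * (t : G) * k⁻¹, h2⟩) := by
    apply Subtype.ext
    rw [h.single]
    change k * ((e.symm (Pi.mulSingle i t) : N) : G) * k⁻¹ = _
    rw [h.single]
  rw [h1, h3, MulEquiv.apply_symm_apply, Pi.mulSingle_eq_same]

theorem coord_perm [N.Normal] (h : Fac N m T e) (k : G) (i : Fin m) (n : N) :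
    ((e (cj N k n) (h.perm k i) : T (h.perm k i)) : G) = k * ((e n i : T i) : G) * k⁻¹ :=
  conj_coord' h (h.perm_spec k i) n

/-- The two possibilities for `K ∩ N`, with the isomorphisms. -/
theorem scott' [Finite G] [N.Normal] (h : Fac N m T e) (K : Subgroup G)
    (hKN : ∀ g : G, ∃ n ∈ N, g * n ∈ K) (hNK : ¬ N ≤ K)
    (hmax : ∀ X ≤ N, K ⊓ N ≤ X → K ≤ normalizer (X : Set G) → X = K ⊓ N ∨ X = N) :
    (∀ n : N, (n : G) ∈ K ↔ ∀ i, ((e n i : T i) : G) ∈ K) ∨
    (∃ (c : Fin m → Fin m) (φ : ∀ i, T (c i) ≃* T i), (∀ i, c (c i) = c i) ∧ (∀ i, ∃ j, j ≠ i ∧ c j = c i) ∧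
      (∀ k ∈ K, ∀ i j, c i = c j → c (h.perm k i) = c (h.perm k j)) ∧
      (∀ n : N, (n : G) ∈ K → ∀ i, e n i = φ i (e n (c i))) ∧
      (∀ x : ∀ i, T i, ∃ n : N, (n : G) ∈ K ∧ ∀ i, e n (c i) = x (c i))) := by
  classical
  have hsimple := h.simple
  have hTna := h.nonab
  rcases h.scott K hKN hNK hmax with h0 | h0
  · exact Or.inl h0
  right
  -- `K` permutes the factors transitively
  have htransK : ∀ i j, ∃ k ∈ K, T j = (T i).map (MulAut.conj k).toMonoidHom := by
    intro i j
    obtain ⟨g, hg⟩ := h.trans i j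
    obtain ⟨n, hn, hgn⟩ := hKN g
    refine ⟨g * n, hgn, ?_⟩
    have h1 : (T i).map (MulAut.conj n).toMonoidHom = T i :=
      mem_normalizer_iff_map_conj_eq.mp (h.norm i hn)
    rw [← map_conj_map_conj, h1, hg]
  let M : Subgroup (∀ i, T i) := K.comap (N.subtype.comp e.symm.toMonoidHom)
  have hM : ∀ y, y ∈ M ↔ ((e.symm y : N) : G) ∈ K := fun y => Iff.rfl
  have hM' : ∀ n : N, e n ∈ M ↔ (n : G) ∈ K := by
    intro n
    rw [hM, MulEquiv.symm_apply_apply]
  have hcjM : ∀ k ∈ K, ∀ n : N, (n : G) ∈ K → ((cj N k n : N) : G) ∈ K := fun k hk n hn =>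
    K.mul_mem (K.mul_mem hk hn) (K.inv_mem hk)
  have hsurj : ∀ i, ∀ t : T i, ∃ x ∈ M, x i = t := by
    obtain ⟨c, -, -, -, h4⟩ := h0
    intro i t
    obtain ⟨k, hk, hki⟩ := htransK (c i) i
    have h1 : k⁻¹ * (t : G) * k ∈ T (c i) := by
      rw [conj_normalizer k (c i) i hki]
      have : k * (k⁻¹ * (t : G) * k) * k⁻¹ = t := by group
      rw [this]
      exact t.2
    obtain ⟨n, hn, hnx⟩ := h4 (Pi.mulSingle (c i) ⟨_, h1⟩)
    have h2 := hnx i
    rw [Pi.mulSingle_eq_same] at h2
    refine ⟨e (cj N k n), (hM' _).2 (hcjM k hk n hn), ?_⟩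
    apply Subtype.ext
    rw [conj_coord' h hki, h2]
    change k * (k⁻¹ * (t : G) * k) * k⁻¹ = t
    group
  obtain ⟨c, φ, hcc, hcrel, hφ, hMc⟩ := subdirect_structure hTna M hsurj
  -- the relation is `K`-invariant
  have hcK : ∀ k ∈ K, ∀ i j i' j', T i' = (T i).map (MulAut.conj k).toMonoidHom →
      T j' = (T j).map (MulAut.conj k).toMonoidHom → c i = c j → c i' = c j' := by
    intro k hk i j i' j' hi' hj' hij
    rw [hcrel] at hij ⊢
    intro x hx hxj'
    have hx1 : ((e.symm x : N) : G) ∈ K := hx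
    have hx2 : e (cj N k⁻¹ (e.symm x)) ∈ M := by
      rw [hM']
      exact hcjM _ (K.inv_mem hk) _ hx1
    have h1 : e (cj N k⁻¹ (e.symm x)) j = 1 := by
      rw [← h.cj_eq_one k j j' hj', cj_cj, MulEquiv.apply_symm_apply]
      exact hxj'
    have h2 := hij _ hx2 h1
    rw [← h.cj_eq_one k i i' hi', cj_cj, MulEquiv.apply_symm_apply] at h2
    exact h2
  refine ⟨c, φ, hcc, ?_, fun k hk i j hij => hcK k hk i j _ _ (h.perm_spec k i) (h.perm_spec k j) hij, ?_, ?_⟩
  · -- no class is a singleton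
    by_contra hcon
    push Not at hcon
    obtain ⟨i₀, hi₀⟩ := hcon
    have hinj : Function.Injective c := by
      intro a b hab
      by_contra hne
      obtain ⟨k, hk, hka⟩ := htransK b i₀
      choose σ hσ using h.conj k
      have hσb : σ b = i₀ := h.inj (by rw [hσ b, hka])
      have h1 : c (σ a) = c (σ b) := hcK k hk a b (σ a) (σ b) (hσ a) (hσ b) hab
      rw [hσb] at h1
      refine hi₀ (σ a) ?_ h1
      intro h2
      apply hne
      apply h.inj
      have h3 := hσ a
      rw [h2, ← hσb, hσ b] at h3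
      exact (Subgroup.map_injective (MulAut.conj k).injective h3).symm
    apply hNK
    have hall : ∀ y, y ∈ M := by
      intro y
      obtain ⟨x, hx, hxy⟩ := exists_mem_eq_on hTna M hsurj Set.univ (by
        intro r _ s _ hne
        by_contra hcon
        push Not at hcon
        exact hne (hinj ((hcrel r s).mpr hcon))) y
      have : x = y := funext fun i => hxy i (Set.mem_univ i)
      exact this ▸ hx
    intro n hn
    have := hall (e ⟨n, hn⟩)
    rwa [hM'] at this
  · intro n hn i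
    exact (hφ (e n) ((hM' n).mpr hn) i).symm
  · intro x
    obtain ⟨y, hy, hyx⟩ := exists_mem_eq_on hTna M hsurj (Set.range c) (by
      rintro _ ⟨i, rfl⟩ _ ⟨j, rfl⟩ hne
      by_contra hcon
      push Not at hcon
      apply hne
      have h1 : c (c i) = c (c j) := (hcrel _ _).mpr fun x hx h => hcon x hx h
      rwa [hcc, hcc] at h1) x
    exact ⟨e.symm y, hy, fun i => by rw [MulEquiv.apply_symm_apply]; exact hyx _ ⟨i, rfl⟩⟩

end Coord

section Core

variable {G : Type*} [Group G] {N : Subgroup G} [N.Normal] {m : ℕ} {T : Fin m → Subgroup G}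
  {e : N ≃* (∀ i, T i)}

/-- `x` fixes the point `n ω` -/
def Fx (K N : Subgroup G) [N.Normal] (x : G) (n : N) : Prop := (((n : G))⁻¹ * ((cj N x n : N) : G)) ∈ K

variable (h : Fac N m T e) (K : Subgroup G) (c : Fin m → Fin m) (φ : ∀ i, T (c i) ≃* T i)

theorem one_iff (hφ : ∀ n : N, (n : G) ∈ K → ∀ i, e n i = φ i (e n (c i))) {n : N} (hn : (n : G) ∈ K)
    {i j : Fin m} (hij : c i = c j) : e n i = 1 ↔ e n j = 1 := by
  rw [hφ n hn i, hφ n hn j, map_eq_one_iff _ (φ i).injective, map_eq_one_iff _ (φ j).injective, hij]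

include h in
theorem fx_coord {x : G} {n : N} (k : Fin m) (i : Fin m) (hik : h.perm x i = k) :
    ((e (n⁻¹ * cj N x n) k : T k) : G) = ((e n k : T k) : G)⁻¹ * (x * ((e n i : T i) : G) * x⁻¹) := by
  subst hik
  rw [map_mul, map_inv, Pi.mul_apply, Pi.inv_apply, Subgroup.coe_mul, Subgroup.coe_inv, coord_perm h]

/-- the permutation respects the classes -/
theorem class_iff {x : G} (hx : x ∈ K) (hcK : ∀ k ∈ K, ∀ i j, c i = c j → c (h.perm k i) = c (h.perm k j))
    (i j : Fin m) : c (h.perm x i) = c (h.perm x j) ↔ c i = c j := by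
  constructor
  · intro h1
    have h2 := hcK x⁻¹ (K.inv_mem hx) _ _ h1
    rw [← Equiv.Perm.mul_apply, ← Equiv.Perm.mul_apply, ← map_mul, inv_mul_cancel, map_one] at h2
    exact h2
  · exact hcK x hx i j

theorem exists_pre (x : G) (k : Fin m) : ∃ j, h.perm x j = k := (h.perm x).surjective k

variable (hc : ∀ i, c (c i) = c i) (hc2 : ∀ i, ∃ j, j ≠ i ∧ c j = c i)
  (hcK : ∀ k ∈ K, ∀ i j, c i = c j → c (h.perm k i) = c (h.perm k j))
  (hφ : ∀ n : N, (n : G) ∈ K → ∀ i, e n i = φ i (e n (c i)))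
  (hsur : ∀ x : ∀ i, T i, ∃ n : N, (n : G) ∈ K ∧ ∀ i, e n (c i) = x (c i))

include hc hcK hφ in
/-- step (2), case B -/
theorem fx_out {x : G} (hx : x ∈ K) {n : N} (hn : ∀ j, c j ≠ j → e n j = 1) (hf : Fx K N x n) {i : Fin m}
    (hi : c i = i) (hsi : c (h.perm x i) ≠ h.perm x i) :
    x * ((e n i : T i) : G) * x⁻¹ = ((φ (h.perm x i) (e n (c (h.perm x i)))⁻¹ : T (h.perm x i)) : G) := by
  obtain ⟨j, hj⟩ := exists_pre h x (c (h.perm x i))
  have hcj : c j = i := by
    have h1 : c (h.perm x j) = c (h.perm x i) := by rw [hj, hc]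
    rw [class_iff h K c hx hcK] at h1
    rw [h1, hi]
  have hji : c j ≠ j := by
    intro h1
    rw [hcj] at h1
    apply hsi
    rw [← hj, ← h1]
  have e1 := fx_coord h (n := n) (h.perm x i) i rfl
  have e2 := fx_coord h (n := n) (c (h.perm x i)) j hj
  rw [hn _ hsi] at e1
  rw [hn j hji] at e2
  have e3 : e (n⁻¹ * cj N x n) (c (h.perm x i)) = (e n (c (h.perm x i)))⁻¹ := by
    apply Subtype.ext
    rw [e2]
    simp
  have e4 := hφ (n⁻¹ * cj N x n) hf (h.perm x i)
  rw [e3] at e4
  rw [e4] at e1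
  rw [e1]
  simp

include hc hc2 hcK hφ in
/-- step (2), case A -/
theorem fx_in {x : G} (hx : x ∈ K) {n : N} (hn : ∀ j, c j ≠ j → e n j = 1) (hf : Fx K N x n) {i : Fin m}
    (hi : c i = i) (hsi : c (h.perm x i) = h.perm x i) :
    ((e n (h.perm x i) : T (h.perm x i)) : G) = x * ((e n i : T i) : G) * x⁻¹ := by
  obtain ⟨k, hk, hck⟩ := hc2 (h.perm x i)
  have hck' : c k ≠ k := by
    rw [hck, hsi]
    exact hk.symm
  obtain ⟨j, hj⟩ := exists_pre h x k
  have hcj : c j = i := by
    have h1 : c (h.perm x j) = c (h.perm x i) := by rw [hj, hck]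
    rw [class_iff h K c hx hcK] at h1
    rw [h1, hi]
  have hji : c j ≠ j := by
    intro h1
    rw [hcj] at h1
    apply hk
    rw [← hj, ← h1]
  have e2 := fx_coord h (n := n) k j hj
  rw [hn _ hck', hn j hji] at e2
  have e3 : e (n⁻¹ * cj N x n) k = 1 := by
    apply Subtype.ext
    rw [e2]
    simp
  rw [one_iff (n := n⁻¹ * cj N x n) K c φ hφ hf hck] at e3
  have e1 := fx_coord h (n := n) (h.perm x i) i rfl
  rw [e3] at e1
  have e5 : ((e n (h.perm x i) : T (h.perm x i)) : G) * ((1 : T (h.perm x i)) : G) =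
      x * ((e n i : T i) : G) * x⁻¹ := by
    rw [e1]
    group
  rw [← e5]
  simp

include hφ hc in
/-- the second kind of points -/
theorem fx_snd {x : G} {n : N} (hn : ∀ j, c j = j → e n j = 1) (hf : Fx K N x n)
    (hs : ∀ i, c (h.perm x i) = h.perm x i → c i = i) (i : Fin m) :
    ((e n (h.perm x i) : T (h.perm x i)) : G) = x * ((e n i : T i) : G) * x⁻¹ := by
  have e3 : ∀ k, e (n⁻¹ * cj N x n) k = 1 := by
    have e4 : ∀ k, c k = k → e (n⁻¹ * cj N x n) k = 1 := by
      intro k hk
      obtain ⟨j, hj⟩ := exists_pre h x k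
      have e1 := fx_coord h (n := n) k j hj
      have hcj : c j = j := hs j (by rw [hj, hk])
      rw [hn _ hk, hn _ hcj] at e1
      apply Subtype.ext
      rw [e1]
      simp
    intro k
    rw [hφ (n⁻¹ * cj N x n) hf k, map_eq_one_iff _ (φ k).injective]
    exact e4 _ (hc k)
  have e1 := fx_coord h (n := n) (h.perm x i) i rfl
  rw [e3] at e1
  have e5 : ((e n (h.perm x i) : T (h.perm x i)) : G) * ((1 : T (h.perm x i)) : G) =
      x * ((e n i : T i) : G) * x⁻¹ := by
    rw [e1]
    group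
  rw [← e5]
  simp

/-! ### the points of the base -/

open Classical in
/-- the family `t` on `S`, `1` elsewhere -/
noncomputable def pt (e : N ≃* (∀ i, T i)) (S : Fin m → Prop) (t : ∀ i, T i) : N :=
  e.symm (fun i => if S i then t i else 1)

omit [N.Normal] in
theorem e_pt_pos {S : Fin m → Prop} {t : ∀ i, T i} {i : Fin m} (hi : S i) : e (pt e S t) i = t i := by
  rw [pt, MulEquiv.apply_symm_apply, if_pos hi]

omit [N.Normal] in
theorem e_pt_neg {S : Fin m → Prop} {t : ∀ i, T i} {i : Fin m} (hi : ¬ S i) : e (pt e S t) i = 1 := by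
  rw [pt, MulEquiv.apply_symm_apply, if_neg hi]

theorem fx_iff {x : G} (hx : x ∈ K) (n : N) : Fx K N x n ↔ (n : G)⁻¹ * x * n ∈ K := by
  change (n : G)⁻¹ * (x * (n : G) * x⁻¹) ∈ K ↔ _
  have h1 : (n : G)⁻¹ * (x * (n : G) * x⁻¹) = ((n : G)⁻¹ * x * n) * x⁻¹ := by group
  rw [h1, K.mul_mem_cancel_right (K.inv_mem hx)]

theorem fx_inv {x : G} (hx : x ∈ K) {n : N} (hf : Fx K N x n) : Fx K N x⁻¹ n := by
  rw [fx_iff K hx] at hf
  rw [fx_iff K (K.inv_mem hx)]
  have h1 := K.inv_mem hf
  have h2 : ((n : G)⁻¹ * x * n)⁻¹ = (n : G)⁻¹ * x⁻¹ * n := by group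
  rwa [h2] at h1

theorem not_comm_of_closure {T : Type*} [Group T] {u v : T} (huv : closure {u, v} = ⊤)
    (hna : ∃ a b : T, a * b ≠ b * a) : u * v ≠ v * u := by
  intro hc
  obtain ⟨a, b, hab⟩ := hna
  have h1 : closure {u, v} ≤ centralizer {u, v} := by
    rw [closure_le]
    rintro y (rfl | rfl)
    · rintro z (rfl | rfl)
      · rfl
      · exact hc.symm
    · rintro z (rfl | rfl)
      · exact hc
      · rfl
  have h2 : ∀ y : T, y * u = u * y ∧ y * v = v * y := by
    intro y
    have h3 : y ∈ centralizer {u, v} := h1 (huv ▸ mem_top y)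
    exact ⟨(h3 u (by simp)).symm, (h3 v (by simp)).symm⟩
  have h4 : closure {u, v} ≤ centralizer {a} := by
    rw [closure_le]
    rintro y (rfl | rfl)
    · rintro z rfl
      exact (h2 z).1
    · rintro z rfl
      exact (h2 z).2
  have h5 : b ∈ centralizer {a} := h4 (huv ▸ mem_top b)
  exact hab (h5 a rfl)

theorem ne_one_of_closure {T : Type*} [Group T] {u v : T} (huv : closure {u, v} = ⊤)
    (hna : ∃ a b : T, a * b ≠ b * a) : u ≠ 1 := by
  rintro rfl
  exact not_comm_of_closure huv hna (by simp)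

include hc hcK hφ in
/-- `x` leaves the set of representatives invariant -/
theorem stay (u v : ∀ i, T i) (huv : ∀ i, closure {u i, v i} = ⊤) {x : G} (hx : x ∈ K)
    (h1 : Fx K N x (pt e (fun i => c i = i) u)) (h2 : Fx K N x (pt e (fun i => c i = i) v))
    (h3 : Fx K N x (pt e (fun i => c i = i) (u * v))) {i : Fin m} (hi : c i = i) :
    c (h.perm x i) = h.perm x i := by
  by_contra hsi
  have e1 := fx_out h K c φ hc hcK hφ hx (n := pt e (fun i => c i = i) u) (fun j hj => e_pt_neg hj) h1 hi hsi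
  have e2 := fx_out h K c φ hc hcK hφ hx (n := pt e (fun i => c i = i) v) (fun j hj => e_pt_neg hj) h2 hi hsi
  have e3 := fx_out h K c φ hc hcK hφ hx (n := pt e (fun i => c i = i) (u * v)) (fun j hj => e_pt_neg hj)
    h3 hi hsi
  rw [e_pt_pos (S := fun i => c i = i) hi, e_pt_pos (S := fun i => c i = i) (hc _)] at e1 e2 e3
  set k := c (h.perm x i) with hk
  have e4 : φ (h.perm x i) (u k)⁻¹ * φ (h.perm x i) (v k)⁻¹ = φ (h.perm x i) ((u * v) k)⁻¹ := by
    apply Subtype.ext
    rw [Subgroup.coe_mul, ← e1, ← e2, ← e3, Pi.mul_apply, Subgroup.coe_mul]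
    group
  rw [← map_mul] at e4
  have e5 := (φ (h.perm x i)).injective e4
  rw [Pi.mul_apply, mul_inv_rev] at e5
  apply not_comm_of_closure (huv k) (h.nonab k)
  have e6 := congrArg (fun z => z⁻¹) e5
  simp only [mul_inv_rev, inv_inv] at e6
  exact e6.symm

include hc hc2 hcK hφ hsur in
/-- The elements fixing all the points of the base centralise `N`. -/
theorem core (u v : ∀ i, T i) (huv : ∀ i, closure {u i, v i} = ⊤) {ι : Type*} (A : ι → Fin m → Prop)
    {x : G} (hx : x ∈ K)
    (h1 : Fx K N x (pt e (fun i => c i = i) u)) (h2 : Fx K N x (pt e (fun i => c i = i) v))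
    (h3 : Fx K N x (pt e (fun i => c i = i) (u * v)))
    (hA1 : ∀ l, Fx K N x (pt e (fun i => c i = i ∧ A l i) u))
    (hA2 : ∀ l, Fx K N x (pt e (fun i => c i ≠ i ∧ A l i) u))
    (hdist : (∀ l i, A l (h.perm x i) ↔ A l i) → ∀ i, h.perm x i = i) (n : N) : cj N x n = n := by
  have hs1 : ∀ i, c i = i → c (h.perm x i) = h.perm x i := fun i hi =>
    stay h K c φ hc hcK hφ u v huv hx h1 h2 h3 hi
  have hs2 : ∀ i, c (h.perm x i) = h.perm x i → c i = i := by
    intro i hi
    have h4 := stay h K c φ hc hcK hφ u v huv (K.inv_mem hx) (fx_inv K hx h1) (fx_inv K hx h2)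
      (fx_inv K hx h3) hi
    rwa [← Equiv.Perm.mul_apply, ← map_mul, inv_mul_cancel, map_one] at h4
  have hu : ∀ i, u i ≠ 1 := fun i => ne_one_of_closure (huv i) (h.nonab i)
  have hconj : ∀ (i j : Fin m) (a : T i) (b : T j), (a : G) = x * (b : G) * x⁻¹ → (a = 1 ↔ b = 1) := by
    intro i j a b hab
    constructor
    · rintro rfl
      apply Subtype.ext
      have h5 : (b : G) = x⁻¹ * (x * (b : G) * x⁻¹) * x := by group
      rw [h5, ← hab]
      simp
    · rintro rfl
      apply Subtype.ext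
      rw [hab]
      simp
  have hσ : ∀ i, h.perm x i = i := by
    apply hdist
    intro l i
    by_cases hi : c i = i
    · have h4 := fx_in h K c φ hc hc2 hcK hφ hx (n := pt e (fun i => c i = i ∧ A l i) u)
        (fun j hj => e_pt_neg (fun h5 => hj h5.1)) (hA1 l) hi (hs1 i hi)
      have h5 := hconj _ _ _ _ h4
      by_cases ha : A l i
      · rw [e_pt_pos (S := fun i => c i = i ∧ A l i) (i := i) ⟨hi, ha⟩] at h5
        by_cases hb : A l (h.perm x i)
        · simp [ha, hb]
        · exact absurd (h5.1 (e_pt_neg fun h6 => hb h6.2)) (hu i)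
      · rw [e_pt_neg (S := fun i => c i = i ∧ A l i) (i := i) (fun h6 => ha h6.2)] at h5
        by_cases hb : A l (h.perm x i)
        · have h6 := h5.2 rfl
          rw [e_pt_pos (S := fun i => c i = i ∧ A l i) (i := h.perm x i) ⟨hs1 i hi, hb⟩] at h6
          exact absurd h6 (hu _)
        · simp [ha, hb]
    · have h4 := fx_snd h K c φ hc hφ (n := pt e (fun i => c i ≠ i ∧ A l i) u)
        (fun j hj => e_pt_neg (fun h5 => h5.1 hj)) (hA2 l) hs2 i
      have h5 := hconj _ _ _ _ h4
      by_cases ha : A l i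
      · rw [e_pt_pos (S := fun i => c i ≠ i ∧ A l i) (i := i) ⟨hi, ha⟩] at h5
        by_cases hb : A l (h.perm x i)
        · simp [ha, hb]
        · exact absurd (h5.1 (e_pt_neg fun h6 => hb h6.2)) (hu i)
      · rw [e_pt_neg (S := fun i => c i ≠ i ∧ A l i) (i := i) (fun h6 => ha h6.2)] at h5
        by_cases hb : A l (h.perm x i)
        · have h6 := h5.2 rfl
          rw [e_pt_pos (S := fun i => c i ≠ i ∧ A l i) (i := h.perm x i) ⟨fun h7 => hi (hs2 i h7), hb⟩] at h6
          exact absurd h6 (hu _)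
        · simp [ha, hb]
  -- `x` centralises the representatives
  have hrep : ∀ i, c i = i → ∀ t : T i, x * (t : G) * x⁻¹ = t := by
    intro i hi t
    have hgen : ∀ w : ∀ i, T i, Fx K N x (pt e (fun i => c i = i) w) → x * (w i : G) * x⁻¹ = w i := by
      intro w hw
      have h4 := fx_in h K c φ hc hc2 hcK hφ hx (n := pt e (fun i => c i = i) w)
        (fun j hj => e_pt_neg hj) hw hi (hs1 i hi)
      rw [e_pt_pos (S := fun i => c i = i) (i := i) hi] at h4
      rw [← h4, e_pt_pos (S := fun i => c i = i) (i := h.perm x i) (hs1 i hi), hσ i]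
    have h4 : closure {u i, v i} ≤ (centralizer {x}).comap (T i).subtype := by
      rw [closure_le]
      rintro y (rfl | rfl)
      · rintro z rfl
        have := hgen u h1
        exact mul_inv_eq_iff_eq_mul.1 this
      · rintro z rfl
        have := hgen v h2
        exact mul_inv_eq_iff_eq_mul.1 this
    have h5 : t ∈ (centralizer {x}).comap (T i).subtype := h4 (huv i ▸ mem_top t)
    exact mul_inv_eq_iff_eq_mul.2 (h5 x rfl)
  have hconj2 : ∀ (i : Fin m) (n : N), ((e (cj N x n) i : T i) : G) = x * ((e n i : T i) : G) * x⁻¹ := by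
    intro i n
    exact conj_coord' h (by rw [← h.perm_spec x i, hσ i]) n
  have hall : ∀ i, ∀ t : T i, x * (t : G) * x⁻¹ = t := by
    intro i t
    obtain ⟨n, hn, hnx⟩ := hsur (Pi.mulSingle (c i) ((φ i).symm t))
    have h4 := hnx i
    rw [Pi.mulSingle_eq_same] at h4
    have h5 : e n i = t := by rw [hφ n hn i, h4, MulEquiv.apply_symm_apply]
    have hcjK : ((cj N x n : N) : G) ∈ K := K.mul_mem (K.mul_mem hx hn) (K.inv_mem hx)
    have h6 : e (cj N x n) (c i) = e n (c i) := by
      apply Subtype.ext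
      rw [hconj2, hrep _ (hc i)]
    have h7 : e (cj N x n) i = t := by rw [hφ _ hcjK i, h6, ← hφ n hn i, h5]
    have h8 := hconj2 i n
    rw [h7, h5] at h8
    exact h8.symm
  have h8 : e (cj N x n) = e n := by
    funext i
    apply Subtype.ext
    rw [hconj2, hall]
  exact e.injective h8

end Core

section Final

variable {G Ω : Type} [Group G] [Finite G] [MulAction G Ω] [Finite Ω] {N : Subgroup G} [N.Normal] {m : ℕ}
  {T : Fin m → Subgroup G} {e : N ≃* (∀ i, T i)}

/-- two nonabelian generators: at least three elements -/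
theorem three_le {T : Type*} [Group T] [Finite T] {u v : T} (huv : closure {u, v} = ⊤)
    (hna : ∃ a b : T, a * b ≠ b * a) : 3 ≤ Nat.card T := by
  classical
  have h1 := not_comm_of_closure huv hna
  have hu : u ≠ 1 := by rintro rfl; exact h1 (by simp)
  have hv : v ≠ 1 := by rintro rfl; exact h1 (by simp)
  have huv' : u ≠ v := by rintro rfl; exact h1 rfl
  have h2 : Function.Injective (![1, u, v] : Fin 3 → T) := by
    intro i j hij
    fin_cases i <;> fin_cases j <;> simp_all
  have h3 := Nat.card_le_card_of_injective _ h2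
  simpa using h3

omit [Finite G] [N.Normal] in
theorem card_lt (ω : Ω) (c : Fin m → Fin m) (hc : ∀ i, c (c i) = c i)
    (hc2 : ∀ i, ∃ j, j ≠ i ∧ c j = c i)
    (hinj : ∀ n : N, (n : G) ∈ MulAction.stabilizer G ω → (∀ i, e n (c i) = 1) → n = 1)
    (h3 : ∀ i, 3 ≤ Nat.card (T i)) [∀ i, Finite (T i)] : m < Nat.card Ω := by
  classical
  let J := {i : Fin m // c i ≠ i}
  let f : (∀ i : J, T i.1) → Ω := fun t =>
    ((e.symm (fun i => if hi : c i ≠ i then t ⟨i, hi⟩ else 1) : N) : G) • ω
  have hf : Function.Injective f := by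
    intro s t hst
    set n1 : N := e.symm (fun i => if hi : c i ≠ i then s ⟨i, hi⟩ else 1) with hn1
    set n2 : N := e.symm (fun i => if hi : c i ≠ i then t ⟨i, hi⟩ else 1) with hn2
    have h4 : (n1 : G) • ω = (n2 : G) • ω := hst
    have h5 : ((n1⁻¹ * n2 : N) : G) ∈ MulAction.stabilizer G ω := by
      rw [MulAction.mem_stabilizer_iff, Subgroup.coe_mul, mul_smul, ← h4, Subgroup.coe_inv, inv_smul_smul]
    have h6 : n1⁻¹ * n2 = 1 := by
      apply hinj _ h5
      intro i
      rw [map_mul, map_inv, Pi.mul_apply, Pi.inv_apply, hn1, hn2, MulEquiv.apply_symm_apply,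
        MulEquiv.apply_symm_apply, dif_neg (not_not.2 (hc i)), dif_neg (not_not.2 (hc i))]
      simp
    have h7 : n1 = n2 := (inv_mul_eq_one.1 h6)
    have h8 := e.symm.injective h7
    funext i
    have h9 := congrFun h8 i.1
    rwa [dif_pos i.2, dif_pos i.2] at h9
  have h4 : Nat.card (∀ i : J, T i.1) ≤ Nat.card Ω := Nat.card_le_card_of_injective f hf
  rw [Nat.card_pi] at h4
  have h5 : 3 ^ Fintype.card J ≤ ∏ i : J, Nat.card (T i.1) := by
    rw [← Finset.card_univ, ← Finset.prod_const]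
    exact Finset.prod_le_prod (fun _ _ => Nat.zero_le _) (fun i _ => h3 i.1)
  have h6 : 1 + Fintype.card J * 2 ≤ 3 ^ Fintype.card J := by
    have := one_add_mul_le_pow (a := 2) (by norm_num : (-2 : ℤ) ≤ 2) (Fintype.card J)
    have h7 : ((1 + Fintype.card J * 2 : ℕ) : ℤ) ≤ ((3 ^ Fintype.card J : ℕ) : ℤ) := by
      push_cast
      norm_num at this
      exact this
    exact_mod_cast h7
  have h7 : m ≤ 2 * Fintype.card J := by
    have h8 : Fintype.card {i : Fin m // c i = i} ≤ Fintype.card J := by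
      choose g hg1 hg2 using hc2
      refine Fintype.card_le_of_injective (fun i => (⟨g i.1, ?_⟩ : J)) ?_
      · rw [hg2, i.2]
        exact (hg1 i.1).symm
      · rintro ⟨i, hi⟩ ⟨j, hj⟩ hij
        have h9 : g i = g j := congrArg Subtype.val hij
        apply Subtype.ext
        change i = j
        rw [← hi, ← hj, ← hg2 i, ← hg2 j, h9]
    have h9 := Fintype.card_subtype_compl (fun i : Fin m => c i = i)
    have h10 : Fintype.card J = Fintype.card (Fin m) - Fintype.card {i : Fin m // c i = i} := h9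
    rw [Fintype.card_fin] at h10
    have h11 : Fintype.card {i : Fin m // c i = i} ≤ m := by
      have := Fintype.card_subtype_le (fun i : Fin m => c i = i)
      rwa [Fintype.card_fin] at this
    omega
  omega

/-- B2 modulo the colouring of the factors. -/
theorem diag_of_col (hp : MulAction.IsPreprimitive G Ω) (hf : Fac N m T e)
    (ω : Ω) (hNK : ¬ N ≤ MulAction.stabilizer G ω) (c : Fin m → Fin m)
    (hsur : ∀ x : ∀ i, T i, ∃ n : N, (n : G) ∈ MulAction.stabilizer G ω ∧ ∀ i, e n (c i) = x (c i))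
    (h2 : ∀ i, ∃ u v : T i, closure {u, v} = ⊤) (c' : ℕ) (F : Fin m → Fin c')
    (hF : ∀ g : G, (∀ i, F (hf.perm g i) = F i) → ∀ i, hf.perm g i = i) :
    BaseLE G Ω (4 + 2 * Nat.clog 2 c') := by
  classical
  set K := MulAction.stabilizer G ω with hK
  have hnt : Nontrivial Ω := by
    by_contra hcon
    rw [not_nontrivial_iff_subsingleton] at hcon
    apply hNK
    intro n _
    rw [hK, MulAction.mem_stabilizer_iff]
    exact Subsingleton.elim _ _
  have hfix : MulAction.fixedPoints N Ω ≠ Set.univ := by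
    intro h
    apply hNK
    intro x hx
    have hy : ω ∈ MulAction.fixedPoints N Ω := by rw [h]; exact Set.mem_univ ω
    exact hy ⟨x, hx⟩
  have htr : MulAction.IsPretransitive N Ω :=
    MulAction.IsQuasiPreprimitive.isPretransitive_of_normal hfix
  have hKN : ∀ g : G, ∃ n ∈ N, g * n ∈ K := by
    intro g
    obtain ⟨n, hn⟩ := MulAction.exists_smul_eq N ω (g⁻¹ • ω)
    refine ⟨n, n.2, ?_⟩
    rw [hK, MulAction.mem_stabilizer_iff, mul_smul]
    change g • (n • ω) = ω
    rw [hn, smul_inv_smul]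
  have hcoatom : IsCoatom K := MulAction.IsPreprimitive.isCoatom_stabilizer_of_isPreprimitive G ω
  have hmax : ∀ X ≤ N, K ⊓ N ≤ X → K ≤ normalizer (X : Set G) → X = K ⊓ N ∨ X = N := by
    intro X hX hKX hinv
    rcases hcoatom.le_iff.mp (le_sup_left : K ≤ K ⊔ X) with h | h
    · right
      apply le_antisymm hX
      intro n hn
      have hn' : n ∈ ((K ⊔ X : Subgroup G) : Set G) := by
        rw [h]; exact Set.mem_univ _
      rw [Subgroup.coe_mul_of_left_le_normalizer_right _ _ hinv] at hn'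
      obtain ⟨k, hk, x, hx, rfl⟩ := hn'
      have hkN : k ∈ N := by
        have := N.mul_mem hn (N.inv_mem (hX hx))
        simpa using this
      exact X.mul_mem (hKX ⟨hk, hkN⟩) hx
    · left
      apply le_antisymm _ hKX
      exact le_inf (by rw [← h]; exact le_sup_right) hX
  rcases scott' hf K hKN hNK hmax with hprod | ⟨c0, φ, hc0, hc02, hcK, hφ, hsur0⟩
  · -- the product case is impossible
    exfalso
    have i0 : Fin m := ⟨0, hf.pos⟩
    have h3 : ∀ t : T (c i0), (t : G) ∈ K := by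
      intro t
      obtain ⟨n, hn, hnx⟩ := hsur (Pi.mulSingle (c i0) t)
      have h4 := (hprod n).1 hn (c i0)
      rwa [hnx i0, Pi.mulSingle_eq_same] at h4
    have h4 : ∀ i (t : T i), (t : G) ∈ K := by
      intro i t
      obtain ⟨g, hg⟩ := hf.trans (c i0) i
      obtain ⟨n, hn, hgn⟩ := hKN g
      have h5 : (T (c i0)).map (MulAut.conj n).toMonoidHom = T (c i0) :=
        mem_normalizer_iff_map_conj_eq.mp (hf.norm _ hn)
      have h6 : T i = (T (c i0)).map (MulAut.conj (g * n)).toMonoidHom := by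
        rw [← map_conj_map_conj, h5, hg]
      have h7 : (t : G) ∈ (T (c i0)).map (MulAut.conj (g * n)).toMonoidHom := h6 ▸ t.2
      obtain ⟨s, hs, hst⟩ := h7
      rw [← hst]
      exact K.mul_mem (K.mul_mem hgn (h3 ⟨s, hs⟩)) (K.inv_mem hgn)
    apply hNK
    intro n hn
    exact (hprod ⟨n, hn⟩).2 fun i => h4 i _
  · -- the diagonal case
    choose u v huv using h2
    let A : Fin (Nat.clog 2 c') → Fin m → Prop := fun l i => (F i : ℕ).testBit l = true
    let P : N → Ω := fun n => (n : G) • ω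
    let B : Finset Ω := {ω, P (pt e (fun i => c0 i = i) u), P (pt e (fun i => c0 i = i) v),
      P (pt e (fun i => c0 i = i) (u * v))} ∪
      (Finset.univ.image (fun l => P (pt e (fun i => c0 i = i ∧ A l i) u)) ∪
      Finset.univ.image (fun l => P (pt e (fun i => c0 i ≠ i ∧ A l i) u)))
    refine ⟨B, ?_, ?_⟩
    · have b1 : ({ω, P (pt e (fun i => c0 i = i) u), P (pt e (fun i => c0 i = i) v),
        P (pt e (fun i => c0 i = i) (u * v))} : Finset Ω).card ≤ 4 := Finset.card_le_four
      have b2 : (Finset.univ.image (fun l => P (pt e (fun i => c0 i = i ∧ A l i) u))).card ≤ Nat.clog 2 c' := by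
        refine Finset.card_image_le.trans ?_
        rw [Finset.card_univ, Fintype.card_fin]
      have b3 : (Finset.univ.image (fun l => P (pt e (fun i => c0 i ≠ i ∧ A l i) u))).card ≤ Nat.clog 2 c' := by
        refine Finset.card_image_le.trans ?_
        rw [Finset.card_univ, Fintype.card_fin]
      refine (Finset.card_union_le _ _).trans ?_
      have b4 := Finset.card_union_le (Finset.univ.image (fun l => P (pt e (fun i => c0 i = i ∧ A l i) u)))
        (Finset.univ.image (fun l => P (pt e (fun i => c0 i ≠ i ∧ A l i) u)))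
      omega
    · intro x hx
      have hxK : x ∈ K := hx ω (by simp [B])
      have hfx : ∀ n : N, P n ∈ B → Fx K N x n := by
        intro n hn
        rw [fx_iff K hxK, hK, MulAction.mem_stabilizer_iff, mul_smul, mul_smul]
        have h5 : x • ((n : G) • ω) = (n : G) • ω := hx _ hn
        rw [h5, inv_smul_smul]
      have hcent := core hf K c0 φ hc0 hc02 hcK hφ hsur0 u v huv A hxK
        (hfx _ (by simp [B])) (hfx _ (by simp [B])) (hfx _ (by simp [B]))
        (fun l => hfx _ (by simp only [B, Finset.mem_union, Finset.mem_image, Finset.mem_univ, true_and]; exact Or.inr (Or.inl ⟨l, rfl⟩)))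
        (fun l => hfx _ (by simp only [B, Finset.mem_union, Finset.mem_image, Finset.mem_univ, true_and]; exact Or.inr (Or.inr ⟨l, rfl⟩)))
        (by
          intro h6
          apply hF
          intro i
          apply Fin.ext
          apply Nat.eq_of_testBit_eq
          intro l
          by_cases hl : l < Nat.clog 2 c'
          · have := h6 ⟨l, hl⟩ i
            simp only [A] at this
            exact Bool.eq_iff_iff.2 this
          · have h7 : ∀ z : Fin c', (z : ℕ).testBit l = false := by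
              intro z
              apply Nat.testBit_eq_false_of_lt
              calc (z : ℕ) < c' := z.2
                _ ≤ 2 ^ Nat.clog 2 c' := Nat.le_pow_clog (by norm_num) _
                _ ≤ 2 ^ l := Nat.pow_le_pow_right (by norm_num) (by omega)
            rw [h7, h7])
      intro y
      obtain ⟨n, rfl⟩ := MulAction.exists_smul_eq N ω y
      have h5 : x * (n : G) * x⁻¹ = n := congrArg Subtype.val (hcent n)
      have h6 : x * (n : G) = n * x := by rwa [mul_inv_eq_iff_eq_mul] at h5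
      change x • ((n : G) • ω) = (n : G) • ω
      rw [← mul_smul, h6, mul_smul]
      congr 1

/-- B2: diagonal case -/
theorem diag_case (G Ω : Type) [Group G] [Finite G] [MulAction G Ω] [FaithfulSMul G Ω] [Finite Ω]
    (hp : MulAction.IsPreprimitive G Ω) (N : Subgroup G) [N.Normal]
    (m : ℕ) (T : Fin m → Subgroup G) (e : N ≃* (∀ i, T i)) (hf : H893.Fac N m T e)
    (ω : Ω) (hNK : ¬ N ≤ MulAction.stabilizer G ω) (c : Fin m → Fin m) (hc : ∀ i, c (c i) = c i)
    (hc2 : ∀ i, ∃ j, j ≠ i ∧ c j = c i)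
    (hinj : ∀ n : N, (n : G) ∈ MulAction.stabilizer G ω → (∀ i, e n (c i) = 1) → n = 1)
    (hsur : ∀ x : ∀ i, T i, ∃ n : N, (n : G) ∈ MulAction.stabilizer G ω ∧ ∀ i, e n (c i) = x (c i))
    (h2 : ∀ i, ∃ u v : T i, closure {u, v} = ⊤) (b : ℕ)
    (ih : ∀ (L Δ : Type) [Group L] [Finite L] [MulAction L Δ] [Finite Δ] (f : L →* G),
      Function.Injective f → MulAction.IsPreprimitive L Δ → Nontrivial Δ →
      Nat.card Δ < Nat.card Ω → BaseLE L Δ b) :
    BaseLE G Ω (4 + 2 * Nat.clog 2 (2 * b + 2)) := by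
  have h3 : ∀ i, 3 ≤ Nat.card (T i) := fun i => by
    obtain ⟨u, v, huv⟩ := h2 i
    exact three_le huv (hf.nonab i)
  have hlt : m < Nat.card Ω := card_lt (e := e) ω c hc hc2 hinj h3
  let _ : MulAction G (Fin m) := MulAction.compHom (Fin m) hf.perm
  have hsm : ∀ (g : G) (i : Fin m), g • i = hf.perm g i := fun g i => rfl
  have : Nonempty (Fin m) := ⟨⟨0, hf.pos⟩⟩
  have htr : MulAction.IsPretransitive G (Fin m) := by
    refine ⟨fun i j => ?_⟩
    obtain ⟨g, hg⟩ := hf.trans i j
    refine ⟨g, ?_⟩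
    rw [hsm]
    apply hf.inj
    rw [hf.perm_spec, hg]
  obtain ⟨F, hF⟩ := H486.B57.col b (2 * b + 2) le_rfl G (Fin m) htr (by
    intro L Δ _ _ _ _ f hfi hprim hnt hcard
    apply ih L Δ f hfi hprim hnt
    rw [Nat.card_eq_fintype_card (α := Fin m), Fintype.card_fin] at hcard
    exact lt_of_le_of_lt hcard hlt)
  have h0 : 0 < 2 * b + 2 := by omega
  exact diag_of_col hp hf ω hNK c hsur h2 (2 * b + 2) (F ⟨0, h0⟩) (fun g hg => (hF ⟨0, h0⟩ ⟨0, h0⟩ g hg).2)

end Final

end Cfsg.Agent.H112.B57
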